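import Mathlib
import Groth.Prelude.Def_Found

universe u

namespace Helper5.Caten

/-- "catenary" for a partial order. -/
def OrderCatenary (P : Type*) [PartialOrder P] : Prop :=
  (∀ p q : P, p ≤ q → ∃ n : ℕ, ∀ s : LTSeries P, s.head = p → s.last = q → s.length ≤ n) ∧
  ∀ s t : LTSeries P, s.head = t.head → s.last = t.last →
    (∀ i : Fin s.length, s (Fin.castSucc i) ⋖ s (Fin.succ i)) →
    (∀ i : Fin t.length, t (Fin.castSucc i) ⋖ t (Fin.succ i)) → s.length = t.length

lemma isCatenary_iff (R : Type u) [CommRing R] :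
    CAlg.IsCatenary R ↔ OrderCatenary (PrimeSpectrum R) := Iff.rfl

lemma OrderCatenary.of_embedding {P Q : Type*} [PartialOrder P] [PartialOrder Q] (e : P ↪o Q)
    (h : (Set.range e).OrdConnected) (hQ : OrderCatenary Q) : OrderCatenary P := by
  constructor
  · intro p q hpq
    obtain ⟨n, hn⟩ := hQ.1 (e p) (e q) (e.monotone hpq)
    refine ⟨n, fun s hs ht => ?_⟩
    have := hn (s.map e e.strictMono) (by rw [LTSeries.head_map, hs]) (by rw [LTSeries.last_map, ht])
    simpa using this
  · intro s t hst hst' hs ht
    have := hQ.2 (s.map e e.strictMono) (t.map e e.strictMono)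
      (by rw [LTSeries.head_map, LTSeries.head_map, hst])
      (by rw [LTSeries.last_map, LTSeries.last_map, hst'])
      (fun i => (h.apply_covBy_apply_iff e).mpr (hs i))
      (fun i => (h.apply_covBy_apply_iff e).mpr (ht i))
    simpa using this

theorem isCatenary_quotient (A : Type u) [CommRing A] (I : Ideal A)
    (hA : CAlg.IsCatenary A) : CAlg.IsCatenary (A ⧸ I) := by
  rw [isCatenary_iff] at hA ⊢
  refine OrderCatenary.of_embedding
    ((I.primeSpectrumQuotientOrderIsoZeroLocus).toOrderEmbedding.trans (OrderEmbedding.subtype _)) ?_ hA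
  have : Set.range ((I.primeSpectrumQuotientOrderIsoZeroLocus).toOrderEmbedding.trans
      (OrderEmbedding.subtype _)) = PrimeSpectrum.zeroLocus (I : Set A) := by
    ext p
    constructor
    · rintro ⟨q, rfl⟩
      exact (I.primeSpectrumQuotientOrderIsoZeroLocus q).2
    · intro hp
      exact ⟨I.primeSpectrumQuotientOrderIsoZeroLocus.symm ⟨p, hp⟩, by simp⟩
  rw [this]
  refine IsUpperSet.ordConnected ?_
  intro p q hpq hp
  rw [PrimeSpectrum.mem_zeroLocus] at hp ⊢
  exact hp.trans hpq

theorem isCatenary_of_isLocalization (A : Type u) [CommRing A] (S : Submonoid A)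
    (B : Type u) [CommRing B] [Algebra A B] [IsLocalization S B]
    (hA : CAlg.IsCatenary A) : CAlg.IsCatenary B := by
  rw [isCatenary_iff] at hA ⊢
  let e : PrimeSpectrum B ↪o PrimeSpectrum A :=
    { toFun := PrimeSpectrum.comap (algebraMap A B)
      inj' := PrimeSpectrum.localization_comap_injective B S
      map_rel_iff' := by
        intro p q
        constructor
        · intro hpq
          have h1 : Ideal.map (algebraMap A B) (p.asIdeal.comap (algebraMap A B)) ≤
              Ideal.map (algebraMap A B) (q.asIdeal.comap (algebraMap A B)) := Ideal.map_mono hpq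
          rwa [IsLocalization.map_under S B, IsLocalization.map_under S B] at h1
        · intro hpq
          exact Ideal.comap_mono hpq }
  refine OrderCatenary.of_embedding e ?_ hA
  have : Set.range e = { p | Disjoint (S : Set A) p.asIdeal } :=
    PrimeSpectrum.localization_comap_range B S
  rw [this]
  refine IsLowerSet.ordConnected ?_
  intro p q hpq hp
  exact Set.disjoint_of_subset_right hpq hp


/-- catenary-ness can be checked on the up-sets `Ici a` of a family of elements below everything. -/
lemma OrderCatenary.of_forall_Ici {P : Type*} [PartialOrder P] (S : Set P)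
    (hS : ∀ p : P, ∃ a ∈ S, a ≤ p) (h : ∀ a ∈ S, OrderCatenary (Set.Ici a)) : OrderCatenary P := by
  have lift : ∀ (a : P) (s : LTSeries P), a ≤ s.head →
      ∃ s' : LTSeries (Set.Ici a), s'.length = s.length ∧ (s'.head : P) = s.head ∧
        (s'.last : P) = s.last ∧
        ((∀ i : Fin s.length, s (Fin.castSucc i) ⋖ s (Fin.succ i)) →
          ∀ i : Fin s'.length, s' (Fin.castSucc i) ⋖ s' (Fin.succ i)) := by
    intro a s ha
    have hmem : ∀ i, a ≤ s i := fun i => ha.trans (LTSeries.head_le s i)
    refine ⟨⟨s.length, fun i => ⟨s i, hmem i⟩, fun i => s.step i⟩, rfl, rfl, rfl, ?_⟩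
    intro hs i
    have hoc : (Set.range (OrderEmbedding.subtype (fun c : P => c ∈ Set.Ici a))).OrdConnected := by
      have : Set.range (OrderEmbedding.subtype (fun c : P => c ∈ Set.Ici a)) = Set.Ici a := by
        ext x; simp
      rw [this]
      exact Set.ordConnected_Ici
    exact (hoc.apply_covBy_apply_iff (OrderEmbedding.subtype (fun c : P => c ∈ Set.Ici a))).mp (hs i)
  constructor
  · intro p q hpq
    obtain ⟨a, haS, hap⟩ := hS p
    obtain ⟨n, hn⟩ := (h a haS).1 ⟨p, hap⟩ ⟨q, hap.trans hpq⟩ hpq
    refine ⟨n, fun s hs ht => ?_⟩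
    obtain ⟨s', hl, hh, hla, -⟩ := lift a s (hs ▸ hap)
    rw [← hl]
    exact hn s' (Subtype.ext (hh.trans hs)) (Subtype.ext (hla.trans ht))
  · intro s t hst hst' hs ht
    obtain ⟨a, haS, hap⟩ := hS s.head
    obtain ⟨s', hl, hh, hla, hsat⟩ := lift a s hap
    obtain ⟨t', hl', hh', hla', hsat'⟩ := lift a t (hst ▸ hap)
    rw [← hl, ← hl']
    exact (h a haS).2 s' t' (Subtype.ext (by rw [hh, hh', hst])) (Subtype.ext (by rw [hla, hla', hst']))
      (hsat hs) (hsat' ht)

theorem isCatenary_iff_minimalPrimes (R : Type u) [CommRing R] [IsNoetherianRing R] :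
    CAlg.IsCatenary R ↔ ∀ p ∈ minimalPrimes R, CAlg.IsCatenary (R ⧸ p) := by
  constructor
  · intro h p _
    exact isCatenary_quotient R p h
  · intro h
    rw [isCatenary_iff]
    refine OrderCatenary.of_forall_Ici
      {a : PrimeSpectrum R | a.asIdeal ∈ minimalPrimes R} ?_ ?_
    · intro p
      obtain ⟨q, hq, hqp⟩ := Ideal.exists_minimalPrimes_le (bot_le : (⊥ : Ideal R) ≤ p.asIdeal)
      exact ⟨⟨q, hq.1.1⟩, hq, hqp⟩
    · intro a ha
      have h1 := (isCatenary_iff _).mp (h a.asIdeal ha)
      have e : PrimeSpectrum (R ⧸ a.asIdeal) ≃o Set.Ici a :=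
        (a.asIdeal.primeSpectrumQuotientOrderIsoZeroLocus).trans
          (OrderIso.setCongr _ _ (by
            ext x
            simp only [PrimeSpectrum.mem_zeroLocus, SetLike.coe_subset_coe, Set.mem_Ici]
            exact Iff.rfl))
      exact OrderCatenary.of_embedding e.symm.toOrderEmbedding
        (by rw [show Set.range e.symm.toOrderEmbedding = Set.univ from e.symm.surjective.range_eq]
            exact Set.ordConnected_univ) h1

end Helper5.Caten
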